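import Groth.Agent.Lib.RegSeqLoc.Comp
import Groth.Agent.Lib.SeqKinds.Basic
import Groth.Agent.S2104
import Groth.Agent.S2105
import Groth.Prelude.Def_RegImm

/-!
# Composites of regular immersions of the kinds Koszul, H_1 and quasi
-/

universe u

open CategoryTheory Limits AlgebraicGeometry TopologicalSpace

namespace GrothLib.RegImmComp29

variable {X Y Z : Scheme.{u}}

/-- Stability of a kind of sequences under flat ring maps. -/
def FlatStable (Q : ∀ (R : Type u) [CommRing R], List R → Prop) : Prop :=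
  ∀ {R S : Type u} [CommRing R] [CommRing S] (φ : R →+* S), φ.Flat → ∀ rs : List R, Q R rs → Q S (rs.map φ)

/-- Appending a sequence regular modulo the first one. -/
def AppendStable (Q Q' Q'' : ∀ (R : Type u) [CommRing R], List R → Prop) : Prop :=
  ∀ {R : Type u} [CommRing R] (ss ns : List R), Q R ss →
    Q' (R ⧸ Ideal.ofList ss) (ns.map (Ideal.Quotient.mk (Ideal.ofList ss))) → Q'' R (ss ++ ns)

/-- Equations of an immersion restricted to a smaller affine open. -/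
theorem exists_shrink (Q : ∀ (R : Type u) [CommRing R], List R → Prop) (hQ : FlatStable Q) (i : Y ⟶ X) (U : X.affineOpens) (hci : IsClosedImmersion (i ∣_ U.1))
    (rs : List Γ(X, U.1)) (hI : RingHom.ker (i.app U.1).hom = Ideal.ofList rs)
    (hK : Q Γ(X, U.1) rs) (U' : X.affineOpens) (h : U'.1 ≤ U.1) :
    IsClosedImmersion (i ∣_ U'.1) ∧ Function.Surjective (i.app U'.1).hom ∧ IsAffineOpen (i ⁻¹ᵁ U'.1) ∧
      ∃ ss : List Γ(X, U'.1), ss.length = rs.length ∧ Q Γ(X, U'.1) ss ∧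
        RingHom.ker (i.app U'.1).hom = Ideal.ofList ss := by
  haveI : IsAffine U.1.toScheme := U.2
  let W : U.1.toScheme.Opens := U.1.ι ⁻¹ᵁ U'.1
  have e : U.1.ι ''ᵁ W = U'.1 := by
    rw [Scheme.Hom.image_preimage_eq_opensRange_inf, Scheme.Opens.opensRange_ι]
    exact inf_eq_right.2 h
  have hci' : IsClosedImmersion (i ∣_ U'.1) := by
    have h2 : IsClosedImmersion ((i ∣_ U.1) ∣_ W) := IsZariskiLocalAtTarget.restrict hci _
    rw [MorphismProperty.arrow_mk_iso_iff @IsClosedImmersion (morphismRestrictRestrict i U.1 _)] at h2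
    rwa [MorphismProperty.arrow_mk_iso_iff @IsClosedImmersion (morphismRestrictEq i e)] at h2
  haveI := hci'
  haveI : IsAffine U'.1.toScheme := U'.2
  have hsurj : Function.Surjective (i.app U'.1).hom := by
    have h3 := (i ∣_ U'.1).app_surjective ⊤ (isAffineOpen_top _)
    have e1 : U'.1.ι ''ᵁ ⊤ = U'.1 := Scheme.Opens.ι_image_top U'.1
    have h4 : Function.Surjective (i.app (U'.1.ι ''ᵁ ⊤)).hom := by
      rw [morphismRestrict_app'] at h3
      intro b
      have e2 := image_morphismRestrict_preimage i U'.1 ⊤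
      obtain ⟨a, ha⟩ := h3 (Y.presheaf.map (homOfLE e2.le).op b)
      refine ⟨a, ?_⟩
      haveI : IsIso (homOfLE e2.le) := ⟨homOfLE e2.ge, Subsingleton.elim _ _, Subsingleton.elim _ _⟩
      exact (ConcreteCategory.bijective_of_isIso (Y.presheaf.map (homOfLE e2.le).op)).1 ha
    exact e1 ▸ h4
  have haff : IsAffineOpen (i ⁻¹ᵁ U'.1) := isAffine_of_isAffineHom (i ∣_ U'.1)
  refine ⟨hci', hsurj, haff, ?_⟩
  obtain ⟨rs', ⟨hlen, hK'⟩, hI'⟩ := GrothLib.RegSeqLoc.exists_rs_congr i (Scheme.Opens.ι_image_top U.1)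
    (P := fun V l => l.length = rs.length ∧ Q Γ(X, V) l) ⟨rs, ⟨rfl, hK⟩, hI⟩
  have hWaff : IsAffineOpen W := by
    rw [← U.1.ι.isAffineOpen_iff_of_isOpenImmersion, e]
    exact U'.2
  have hWk : RingHom.ker ((i ∣_ U.1).app W).hom =
      Ideal.ofList (rs'.map (U.1.toScheme.presheaf.map (homOfLE (le_top : W ≤ ⊤)).op).hom) := by
    have := ((i ∣_ U.1).ker.map_ideal (U := ⟨W, hWaff⟩) (V := ⟨⊤, isAffineOpen_top _⟩) (show W ≤ ⊤ from le_top))
    rw [Scheme.Hom.ker_apply, Scheme.Hom.ker_apply, GrothLib.RegSeqLoc.ker_app_morphismRestrict] at this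
    erw [hI'] at this
    exact this.symm.trans (Ideal.map_ofList _ _)
  rw [GrothLib.RegSeqLoc.ker_app_morphismRestrict] at hWk
  obtain ⟨ss, ⟨hlen', hK''⟩, hI''⟩ := GrothLib.RegSeqLoc.exists_rs_congr i e.symm
    (P := fun V l => l.length = rs.length ∧ Q Γ(X, V) l)
    ⟨_, ⟨(List.length_map _).trans hlen, hQ _
      (GrothLib.RegSeqLoc.flat_res (X := U.1.toScheme) (isAffineOpen_top _) hWaff le_top) rs' hK'⟩, hWk⟩
  exact ⟨ss, hlen', hK'', hI''⟩

/-- Koszul regular equations for a composite, near a point. -/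
theorem exists_equations_comp (Q Q' Q'' : ∀ (R : Type u) [CommRing R], List R → Prop) (hQ : FlatStable Q)
    (hQ' : FlatStable Q') (happ : AppendStable Q Q' Q'') (i : Y ⟶ X) (j : Z ⟶ Y) (z : Z)
    (U : X.affineOpens) (hzU : i (j z) ∈ U.1) (hci : IsClosedImmersion (i ∣_ U.1)) (rs : List Γ(X, U.1))
    (hK : Q Γ(X, U.1) rs) (hI : RingHom.ker (i.app U.1).hom = Ideal.ofList rs)
    (W : Y.affineOpens) (hzW : j z ∈ W.1) (hcj : IsClosedImmersion (j ∣_ W.1)) (ms : List Γ(Y, W.1))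
    (hM : Q' Γ(Y, W.1) ms) (hJ : RingHom.ker (j.app W.1).hom = Ideal.ofList ms) :
    ∃ V : X.affineOpens, (j ≫ i) z ∈ V.1 ∧ IsClosedImmersion ((j ≫ i) ∣_ V.1) ∧
      ∃ ts : List Γ(X, V.1), Q'' Γ(X, V.1) ts ∧
        RingHom.ker ((j ≫ i).app V.1).hom = Ideal.ofList ts := by
  haveI := hci
  obtain ⟨O, hO, hOW⟩ := (i ∣_ U.1).isClosedEmbedding.isInducing.isOpen_iff.1 ((i ⁻¹ᵁ U.1).ι ⁻¹ᵁ W.1).2
  obtain ⟨V, hV, hzV, hVO⟩ : ∃ V : X.Opens, IsAffineOpen V ∧ i (j z) ∈ V ∧ V ≤ U.1.ι ''ᵁ ⟨O, hO⟩ := by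
    have hz : (⟨i (j z), hzU⟩ : U.1) ∈ (⟨O, hO⟩ : U.1.toScheme.Opens) := by
      have : (⟨j z, hzU⟩ : (i ⁻¹ᵁ U.1 : Y.Opens)) ∈ (i ∣_ U.1) ⁻¹' O := by rw [hOW]; exact hzW
      show _ ∈ O
      convert Set.mem_preimage.1 this using 1
      exact Subtype.ext (congrArg (fun f : (i ⁻¹ᵁ U.1).toScheme ⟶ X => f ⟨j z, hzU⟩) (morphismRestrict_ι i U.1)).symm
    obtain ⟨_, ⟨V, hV, rfl⟩, hzV, hVO⟩ :=
      X.isBasis_affineOpens.exists_subset_of_mem_open (show i (j z) ∈ U.1.ι ''ᵁ ⟨O, hO⟩ from ⟨_, hz, rfl⟩)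
        (U.1.ι ''ᵁ ⟨O, hO⟩).2
    exact ⟨V, hV, hzV, hVO⟩
  have hVU : V ≤ U.1 := fun x hx => by
    obtain ⟨y, -, rfl⟩ := hVO hx; exact y.2
  have hVW : i ⁻¹ᵁ V ≤ W.1 := fun y hy => by
    obtain ⟨w, hw, hwy⟩ := hVO hy
    have hyU : y ∈ i ⁻¹ᵁ U.1 := hVU hy
    have h5 : (i ∣_ U.1) ⟨y, hyU⟩ = w := Subtype.ext
      ((congrArg (fun f : (i ⁻¹ᵁ U.1).toScheme ⟶ X => f ⟨y, hyU⟩) (morphismRestrict_ι i U.1)).trans hwy.symm)
    have : (⟨y, hyU⟩ : (i ⁻¹ᵁ U.1 : Y.Opens)) ∈ (i ∣_ U.1) ⁻¹' O := by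
      show (i ∣_ U.1) ⟨y, hyU⟩ ∈ O; rw [h5]; exact hw
    rw [hOW] at this
    exact this
  obtain ⟨hciV, hsurj, haff, ss, hlen, hKs, hIs⟩ := exists_shrink Q hQ i U hci rs hI hK ⟨V, hV⟩ hVU
  obtain ⟨hcjV, -, -, ns, hlen', hMn, hJn⟩ := exists_shrink Q' hQ' j W hcj ms hJ hM ⟨i ⁻¹ᵁ V, haff⟩ hVW
  choose lift hlift using hsurj
  refine ⟨⟨V, hV⟩, hzV, ?_, ss ++ ns.map lift, ?_, ?_⟩
  · rw [morphismRestrict_comp]
    exact MorphismProperty.comp_mem @IsClosedImmersion _ _ hcjV hciV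
  · refine happ ss _ hKs ?_
    let ψ := (Ideal.quotEquivOfEq hIs.symm).trans (RingHom.quotientKerEquivOfSurjective (f := (i.app V).hom)
      (fun b => ⟨lift b, hlift b⟩))
    have hbij : ((ns.map lift).map (Ideal.Quotient.mk (Ideal.ofList ss))) = ns.map ψ.symm.toRingHom := by
      rw [List.map_map]
      refine List.map_congr_left fun b _ => ?_
      show Ideal.Quotient.mk (Ideal.ofList ss) (lift b) = ψ.symm b
      rw [RingEquiv.eq_symm_apply]
      exact hlift b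
    rw [hbij]
    exact hQ' _ (RingHom.Flat.of_bijective ψ.symm.bijective) ns hMn
  · show RingHom.ker ((j ≫ i).app V).hom = _
    have hJn' : RingHom.ker (j.app (i ⁻¹ᵁ V)).hom = Ideal.ofList ns := hJn
    refine (show RingHom.ker ((j ≫ i).app V).hom = Ideal.comap (i.app V).hom (RingHom.ker (j.app (i ⁻¹ᵁ V)).hom) from
      (RingHom.comap_ker _ _).symm).trans ?_
    rw [hJn', Ideal.ofList_append, ← hIs, sup_comm]
    have : Ideal.ofList ns = (Ideal.ofList (ns.map lift)).map (i.app V).hom := by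
      rw [Ideal.map_ofList, List.map_map]
      congr 1
      conv_lhs => rw [← List.map_id ns]
      exact List.map_congr_left fun b _ => (hlift b).symm
    rw [this, Ideal.comap_map_of_surjective _ (fun b => ⟨lift b, hlift b⟩), ← RingHom.ker_eq_comap_bot]
    try rfl

/-- A kind of sequences as a predicate. -/
def QS (k : RegImm.Kind) : ∀ (R : Type u) [CommRing R], List R → Prop := fun R _ rs => k.Seq R rs

theorem QS_iff {k : RegImm.Kind} {R : Type u} [CommRing R] {rs : List R} : QS k R rs ↔ k.Seq R rs := Iff.rfl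

theorem iff_get_ofFn (P : ∀ {R : Type u} [CommRing R] {n : ℕ}, (Fin n → R) → Prop) {R : Type u} [CommRing R]
    {n : ℕ} (f : Fin n → R) (l : List R) (h : l = List.ofFn f) : P l.get ↔ P f := by
  subst h
  have : ∀ (m : ℕ) (e : m = n), P (f ∘ Fin.cast e) ↔ P f := fun m e => by subst e; exact Iff.rfl
  convert this _ (List.length_ofFn (f := f)) using 2
  funext i
  simp [List.get_eq_getElem, Fin.cast]

theorem flatStable_h1 : FlatStable (QS.{u} RegImm.Kind.h1) := by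
  intro R S _ _ φ hφ rs h
  exact (iff_get_ofFn (fun {R} [CommRing R] {n} f => CAlgX.IsH1Regular f) (φ ∘ rs.get) _
    (by rw [← List.map_ofFn, List.ofFn_get])).2 (GrothLib.SeqKinds.isH1Regular_map φ hφ _ h)

theorem flatStable_quasi : FlatStable (QS.{u} RegImm.Kind.quasi) := by
  intro R S _ _ φ hφ rs h
  exact (iff_get_ofFn (fun {R} [CommRing R] {n} f => CAlgX.IsQuasiRegular f) (φ ∘ rs.get) _
    (by rw [← List.map_ofFn, List.ofFn_get])).2 (GrothLib.SeqKinds.isQuasiRegular_map φ hφ _ h)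

theorem appendStable_h1 : AppendStable (QS.{u} RegImm.Kind.h1)
    (QS.{u} RegImm.Kind.h1) (QS.{u} RegImm.Kind.h1) := by
  intro R _ ss ns hs hn
  refine (iff_get_ofFn (fun {R} [CommRing R] {n} f => CAlgX.IsH1Regular f) (Fin.append ss.get ns.get) _
    (by rw [List.ofFn_fin_append, List.ofFn_get, List.ofFn_get])).2 (Groth.Agent.S2105.result _ _ hs ?_)
  rw [show Ideal.span (Set.range ss.get) = Ideal.ofList ss by rw [Set.range_list_get]]
  exact (iff_get_ofFn (fun {R} [CommRing R] {n} f => CAlgX.IsH1Regular f)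
    (Ideal.Quotient.mk (Ideal.ofList ss) ∘ ns.get) _ (by rw [← List.map_ofFn, List.ofFn_get])).1 hn

theorem appendStable_quasi : AppendStable (QS.{u} RegImm.Kind.quasi)
    (QS.{u} RegImm.Kind.h1) (QS.{u} RegImm.Kind.quasi) := by
  intro R _ ss ns hs hn
  refine (iff_get_ofFn (fun {R} [CommRing R] {n} f => CAlgX.IsQuasiRegular f) (Fin.append ss.get ns.get) _
    (by rw [List.ofFn_fin_append, List.ofFn_get, List.ofFn_get])).2 (Groth.Agent.S2104.result _ _ hs ?_)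
  rw [show Ideal.span (Set.range ss.get) = Ideal.ofList ss by rw [Set.range_list_get]]
  exact (iff_get_ofFn (fun {R} [CommRing R] {n} f => CAlgX.IsH1Regular f)
    (Ideal.Quotient.mk (Ideal.ofList ss) ∘ ns.get) _ (by rw [← List.map_ofFn, List.ofFn_get])).1 hn

/-- Composites of regular immersions: `j ≫ i` for `i` of kind `k` and `j` of kind `k'`. -/
theorem isRegularImmersion_comp (k k' : RegImm.Kind) (hk : FlatStable (QS.{u} k))
    (hk' : FlatStable (QS.{u} k'))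
    (happ : AppendStable (QS.{u} k) (QS.{u} k')
      (QS.{u} k))
    (i : Y ⟶ X) (j : Z ⟶ Y) (hi : RegImm.IsRegularImmersion k i) (hj : RegImm.IsRegularImmersion k' j) :
    RegImm.IsRegularImmersion k (j ≫ i) := by
  haveI : IsImmersion i := hi.1
  haveI : IsImmersion j := hj.1
  refine ⟨MorphismProperty.comp_mem @IsImmersion _ _ hj.1 hi.1, fun z => ?_⟩
  obtain ⟨U, hzU, hci, rs, hK, hI⟩ := hi.2 (j z)
  obtain ⟨W, hzW, hcj, ms, hM, hJ⟩ := hj.2 z
  obtain ⟨V, h1, h2, ts, h3, h4⟩ :=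
    exists_equations_comp (QS.{u} k) (QS.{u} k') (QS.{u} k) hk hk' happ i j z U hzU hci rs (QS_iff.2 hK) hI W hzW hcj ms
      (QS_iff.2 hM) hJ
  exact ⟨V, h1, h2, ts, QS_iff.1 h3, h4⟩

end GrothLib.RegImmComp29
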